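import Groth.Prelude.Def_HTop3
import Groth.Agent.HTopCov.AlmostBlowUp
import Groth.Agent.HTopPh.Square
import Groth.Agent.AlgGlue.Models
import Groth.Agent.S8859
import Groth.Agent.S8910
import Groth.Agent.S9220
import Groth.Agent.S7379
import Groth.Agent.S0594
import Groth.Agent.ProjX.Proper
import Mathlib.AlgebraicGeometry.Noetherian

/-!
# Almost blow up squares: existence and domination

The blow up of a finite type ideal on a qcqs scheme is approximated by pulling back the blow up of an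
ideal on a scheme of finite type over `ℤ`.
-/

set_option autoImplicit false
set_option backward.isDefEq.respectTransparency false
set_option backward.isDefEq.respectTransparency.types false

universe u

namespace Groth.Agent.ABlowEx

open CategoryTheory CategoryTheory.Limits AlgebraicGeometry HTop HTopCov Opposite
open Scheme (IdealSheafData)

variable {X : Scheme.{u}}

/-- Over a locally Noetherian scheme a blow up gives an almost blow up square. -/
theorem isAlmostBlowUpSquare_of_isBlowUp [IsLocallyNoetherian X] (J : X.IdealSheafData)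
    (hJ : BlowUp.IsFiniteTypeIdeal J) {X' : Scheme.{u}} (b : X' ⟶ X) (hb : BlowUp.IsBlowUp b J) :
    IsAlmostBlowUpSquare (pullback.fst b J.subschemeι) (pullback.snd b J.subschemeι) b J.subschemeι := by
  haveI : IsProper b := ProjX.isProper_of_isProjective (S8910.result J hJ b hb)
  have hk : (J.subschemeι.ker).comap b = J.comap b := by rw [IdealSheafData.ker_subschemeι]
  refine ⟨inferInstance, LocallyOfFinitePresentation.iff_locallyOfFiniteType.mpr inferInstance,
    IsPullback.of_hasPullback _ _, ?_, inferInstance,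
    LocallyOfFinitePresentation.iff_locallyOfFiniteType.mpr inferInstance, ?_⟩
  · exact hk ▸ isLocPrincipal_of_isEffCartier hb.1
  · rw [hk, supportedOn_eq_bot hb.1, IdealSheafData.ker_subschemeι]
    haveI : IsIso (⊥ : X'.IdealSheafData).subschemeι := inferInstance
    refine ⟨?_, fun T g hg => ?_⟩
    · rw [IdealSheafData.comap_comp, supportedOn_eq_bot hb.1 |>.symm]
      exact isEffCartier_comap_supportedOn _ (isLocPrincipal_of_isEffCartier hb.1)
    · obtain ⟨h, hh, huniq⟩ := hb.2 T g hg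
      refine ⟨h ≫ inv (⊥ : X'.IdealSheafData).subschemeι,
        show (h ≫ inv (⊥ : X'.IdealSheafData).subschemeι) ≫ _ ≫ b = g by simp [hh], fun l hl => ?_⟩
      rw [IsIso.eq_comp_inv]
      exact huniq _ (by simpa using hl)

theorem exists_almostBlowUp {Z : Scheme.{u}} [CompactSpace X] [QuasiSeparatedSpace X] (i : Z ⟶ X)
    [IsClosedImmersion i] [LocallyOfFinitePresentation i] :
    ∃ (E X' : Scheme.{u}) (e : E ⟶ X') (π : E ⟶ Z) (b : X' ⟶ X), IsAlmostBlowUpSquare e π b i := by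
  obtain ⟨M⟩ := AlgGlue.nonempty_model X
  obtain ⟨a, J, hJ, hJc⟩ := S9220.result M.D M.cone M.isLimit i.ker (fun U => HTopPh.fg_ker_ideal i U)
  haveI : IsNoetherian (M.D.obj a) := (M.ftz a).isNoetherian
  obtain ⟨X₀, b₀, hb₀⟩ := S8859.result (M.D.obj a) J
  have h₀ := isAlmostBlowUpSquare_of_isBlowUp J hJ b₀ hb₀
  have hpk : (pullback.fst (M.π a) J.subschemeι).ker = i.ker := hJc
  let φ : Z ⟶ pullback (M.π a) J.subschemeι :=
    IsClosedImmersion.lift (pullback.fst (M.π a) J.subschemeι) i hpk.le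
  haveI : IsIso φ := IsClosedImmersion.isIso_lift _ _ hpk
  have hφ : φ ≫ pullback.fst (M.π a) J.subschemeι = i := IsClosedImmersion.lift_fac _ _ _
  have hZ : IsPullback (φ ≫ pullback.snd (M.π a) J.subschemeι) i J.subschemeι (M.π a) :=
    ((IsPullback.of_hasPullback (M.π a) J.subschemeι).of_iso (asIso φ).symm (Iso.refl _) (Iso.refl _)
      (Iso.refl _) (by simp [← hφ]) (by simp) (by simp) (by simp)).flip
  let gX := pullback.fst b₀ (M.π a)
  let b := pullback.snd b₀ (M.π a)
  have hX : IsPullback gX b b₀ (M.π a) := IsPullback.of_hasPullback _ _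
  let e := pullback.snd (pullback.fst b₀ J.subschemeι) gX
  have hw : (pullback.fst (pullback.fst b₀ J.subschemeι) gX ≫ pullback.snd b₀ J.subschemeι) ≫ J.subschemeι =
      (e ≫ b) ≫ M.π a := by
    rw [Category.assoc, Category.assoc, ← hX.w, ← pullback.condition (f := b₀) (g := J.subschemeι),
      ← Category.assoc, ← Category.assoc, pullback.condition (g := gX)]
  exact ⟨_, _, e, hZ.lift _ _ hw, b, isAlmostBlowUpSquare_baseChange h₀ (M.π a) hX hZ
    (IsPullback.of_hasPullback _ _) (hZ.lift_snd _ _ _)⟩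

/-- The fibre product of two almost blow up squares with the same centre is an almost blow up square. -/
theorem isAlmostBlowUpSquare_pullback {Z E₁ X₁ E₂ X₂ : Scheme.{u}} {i : Z ⟶ X}
    {e₁ : E₁ ⟶ X₁} {π₁ : E₁ ⟶ Z} {b₁ : X₁ ⟶ X} (h₁ : IsAlmostBlowUpSquare e₁ π₁ b₁ i)
    {e₂ : E₂ ⟶ X₂} {π₂ : E₂ ⟶ Z} {b₂ : X₂ ⟶ X} (h₂ : IsAlmostBlowUpSquare e₂ π₂ b₂ i) :
    IsAlmostBlowUpSquare (pullback.fst (pullback.fst b₁ b₂ ≫ b₁) i) (pullback.snd (pullback.fst b₁ b₂ ≫ b₁) i)
      (pullback.fst b₁ b₂ ≫ b₁) i := by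
  haveI := h₁.isProper
  haveI := h₂.isProper
  haveI := h₁.finitePresentation
  haveI := h₂.finitePresentation
  have hc : IsLocPrincipal (i.ker.comap (pullback.fst b₁ b₂ ≫ b₁)) := by
    rw [IdealSheafData.comap_comp]
    exact isLocPrincipal_comap _ _ h₁.locPrincipal
  refine ⟨h₁.isClosedImmersion, h₁.finitePresentation_base, IsPullback.of_hasPullback _ _, hc, inferInstance,
    inferInstance, isBlowUp_of_comparison h₁.isBlowUp hc ?_ ?_⟩
  · rintro T g hg ⟨k, hk⟩
    obtain ⟨m, hm, -⟩ := h₂.isBlowUp.2 T g hg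
    refine ⟨pullback.lift k (m ≫ (supportedOn (i.ker.comap b₂)).subschemeι) ?_, ?_⟩
    · rw [hk, Category.assoc, hm]
    · rw [pullback.lift_fst_assoc, hk]
  · intro T k₁ k₂ hk hcart
    have w₁ : ∀ k : T ⟶ pullback b₁ b₂, (k ≫ pullback.snd b₁ b₂) ≫ b₂ = k ≫ pullback.fst b₁ b₂ ≫ b₁ := by
      intro k
      rw [pullback.condition, Category.assoc]
    refine pullback.hom_ext (hom_ext_of_isBlowUp h₁.isBlowUp _ _ ?_ ?_)
      (hom_ext_of_isBlowUp h₂.isBlowUp _ _ ?_ ?_)
    · simpa using hk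
    · simpa using hcart
    · rw [w₁, w₁, hk]
    · rw [w₁]; exact hcart

theorem exists_dominating {Z E₁ X₁ E₂ X₂ : Scheme.{u}} [CompactSpace X] [QuasiSeparatedSpace X] {i : Z ⟶ X}
    {e₁ : E₁ ⟶ X₁} {π₁ : E₁ ⟶ Z} {b₁ : X₁ ⟶ X} (h₁ : IsAlmostBlowUpSquare e₁ π₁ b₁ i)
    {e₂ : E₂ ⟶ X₂} {π₂ : E₂ ⟶ Z} {b₂ : X₂ ⟶ X} (h₂ : IsAlmostBlowUpSquare e₂ π₂ b₂ i) :
    ∃ (E X' : Scheme.{u}) (e : E ⟶ X') (π : E ⟶ Z) (b : X' ⟶ X) (j₁ : X' ⟶ X₁) (j₂ : X' ⟶ X₂),
      IsAlmostBlowUpSquare e π b i ∧ IsClosedImmersion j₁ ∧ IsClosedImmersion j₂ ∧ j₁ ≫ b₁ = b ∧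
        j₂ ≫ b₂ = b := by
  have hW := isAlmostBlowUpSquare_pullback h₁ h₂
  haveI := h₁.isProper
  haveI := h₂.isProper
  haveI := h₁.finitePresentation
  haveI := h₂.finitePresentation
  haveI := hW.isProper
  let c := pullback.fst b₁ b₂ ≫ b₁
  haveI hWc : CompactSpace ↥(pullback b₁ b₂) := QuasiCompact.compactSpace_of_compactSpace c
  haveI hWq : QuasiSeparatedSpace ↥(pullback b₁ b₂) := quasiSeparatedSpace_of_quasiSeparated c
  haveI : CompactSpace X₁ := QuasiCompact.compactSpace_of_compactSpace b₁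
  haveI : QuasiSeparatedSpace X₁ := quasiSeparatedSpace_of_quasiSeparated b₁
  haveI : CompactSpace X₂ := QuasiCompact.compactSpace_of_compactSpace b₂
  haveI : QuasiSeparatedSpace X₂ := quasiSeparatedSpace_of_quasiSeparated b₂
  let K := supportedOn (i.ker.comap c)
  obtain ⟨I, _, _, _, D, cn, hcn, hD, ⟨e⟩⟩ := S7379.result K.subschemeι
  let D' := D ⋙ Over.forget _
  let cn' := (Over.forget _).mapCone cn
  have hcn' : IsLimit cn' := isLimitOfPreserves (Over.forget _) hcn
  haveI : ∀ a b (f : a ⟶ b), IsClosedImmersion (D'.map f) := fun a b f => by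
    haveI := (hD b).1
    haveI : IsClosedImmersion ((D.map f).left ≫ (D.obj b).hom) := by
      rw [Over.w]; exact (hD a).1
    exact IsClosedImmersion.of_comp (D.map f).left (D.obj b).hom
  haveI : ∀ a, IsClosedImmersion (D.obj a).hom := fun a => (hD a).1
  haveI : ∀ a, LocallyOfFinitePresentation (D.obj a).hom := fun a => (hD a).2
  haveI : ∀ a, CompactSpace (D'.obj a) := fun a =>
    QuasiCompact.compactSpace_of_compactSpace (D.obj a).hom
  haveI : ∀ a, QuasiSeparatedSpace (D'.obj a) := fun a =>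
    quasiSeparatedSpace_of_quasiSeparated (D.obj a).hom
  have hpt : cn.pt.hom = e.hom.left ≫ K.subschemeι := (Over.w e.hom).symm
  -- the composite with a projection is a closed immersion in the limit
  have key : ∀ {E' X' : Scheme.{u}} {e' : E' ⟶ X'} {π' : E' ⟶ Z} {b' : X' ⟶ X}
      (_ : IsAlmostBlowUpSquare e' π' b' i) (p : pullback b₁ b₂ ⟶ X'), p ≫ b' = c →
      IsClosedImmersion (K.subschemeι ≫ p) := by
    intro E' X' e' π' b' h' p hp
    obtain ⟨φ, hφ, -⟩ := h'.isBlowUp.2 _ _ hW.isBlowUp.1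
    obtain ⟨ψ, hψ, -⟩ := hW.isBlowUp.2 _ _ h'.isBlowUp.1
    haveI : IsIso φ := by
      refine ⟨ψ, ?_, ?_⟩
      · obtain ⟨m, -, hm⟩ := hW.isBlowUp.2 _ _ hW.isBlowUp.1
        exact (hm _ (by simp only [Category.assoc] at hψ hφ ⊢; rw [hψ, hφ])).trans
          (hm _ (Category.id_comp _)).symm
      · obtain ⟨m, -, hm⟩ := h'.isBlowUp.2 _ _ h'.isBlowUp.1
        exact (hm _ (by simp only [Category.assoc] at hψ hφ ⊢; rw [hφ, hψ])).trans
          (hm _ (Category.id_comp _)).symm
    have : K.subschemeι ≫ p = φ ≫ (supportedOn (i.ker.comap b')).subschemeι := by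
      refine hom_ext_of_isBlowUp h'.isBlowUp _ _ ?_ ?_
      · rw [Category.assoc, hp, Category.assoc, hφ]
      · rw [Category.assoc, hp]; exact hW.isBlowUp.1
    rw [this]
    infer_instance
  have main : ∀ {E' X' : Scheme.{u}} {e' : E' ⟶ X'} {π' : E' ⟶ Z} {b' : X' ⟶ X}
      (_ : IsAlmostBlowUpSquare e' π' b' i) (p : pullback b₁ b₂ ⟶ X') [LocallyOfFiniteType p]
      [CompactSpace X'] [QuasiSeparatedSpace X'],
      p ≫ b' = c → ∃ a : Iᵒᵖ, IsClosedImmersion ((D.obj a).hom ≫ p) := by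
    intro E' X' e' π' b' h' p _ _ _ hp
    let t : D' ⟶ (Functor.const Iᵒᵖ).obj X' :=
      { app := fun a => (D.obj a).hom ≫ p
        naturality := fun a b f => by
          show (D.map f).left ≫ (D.obj b).hom ≫ p = ((D.obj a).hom ≫ p) ≫ 𝟙 X'
          rw [Over.w_assoc, Category.comp_id] }
    haveI : ∀ a, LocallyOfFiniteType (t.app a) := fun a =>
      inferInstanceAs (LocallyOfFiniteType ((D.obj a).hom ≫ p))
    let a₀ : Iᵒᵖ := op (Classical.arbitrary I)
    haveI : IsClosedImmersion (cn'.π.app a₀ ≫ t.app a₀) := by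
      show IsClosedImmersion ((cn.π.app a₀).left ≫ (D.obj a₀).hom ≫ p)
      erw [Over.w_assoc]
      show IsClosedImmersion (cn.pt.hom ≫ p)
      rw [hpt, Category.assoc]
      haveI := key h' p hp
      infer_instance
    exact S0594.result X' D' t cn' hcn' a₀
  obtain ⟨a₁, ha₁⟩ := main h₁ (pullback.fst b₁ b₂) rfl
  obtain ⟨a₂, ha₂⟩ := main h₂ (pullback.snd b₁ b₂) pullback.condition.symm
  let a := IsCofiltered.min a₁ a₂
  have up : ∀ {X' : Scheme.{u}} (p : pullback b₁ b₂ ⟶ X') (a' : Iᵒᵖ) (_ : a ⟶ a'),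
      IsClosedImmersion ((D.obj a').hom ≫ p) → IsClosedImmersion ((D.obj a).hom ≫ p) := by
    intro X' p a' f hp
    rw [← Over.w (D.map f), Category.assoc]
    haveI : IsClosedImmersion (D.map f).left := inferInstanceAs (IsClosedImmersion (D'.map f))
    infer_instance
  let w := (D.obj a).hom
  have hker : w.ker ≤ supportedOn (i.ker.comap c) := by
    calc w.ker ≤ ((cn.π.app a).left ≫ w).ker := Scheme.Hom.le_ker_comp _ _
      _ = K := by
        erw [Over.w]
        show cn.pt.hom.ker = K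
        rw [hpt, Scheme.Hom.ker_comp_of_isIso, IdealSheafData.ker_subschemeι]
  refine ⟨_, _, _, _, w ≫ c, w ≫ pullback.fst b₁ b₂, w ≫ pullback.snd b₁ b₂,
    (ker_le_iff_isAlmostBlowUpSquare hW w
      (IsPullback.of_hasPullback (pullback.fst c i) w)).mp hker,
    up _ _ (IsCofiltered.minToLeft a₁ a₂) ha₁, up _ _ (IsCofiltered.minToRight a₁ a₂) ha₂, ?_, ?_⟩
  · exact Category.assoc _ _ _
  · rw [Category.assoc, ← pullback.condition]

end Groth.Agent.ABlowEx
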